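import Cfsg.Agent.H92.Theta.Series

/-!
Representation numbers of even unimodular lattices of rank 24 without roots.
-/

set_option autoImplicit false

noncomputable section

namespace H92.Theta

open Matrix Complex
open UpperHalfPlane hiding I I_im I_re
open scoped Real MatrixGroups ModularForm

/-- The comparison form. -/
def refForm : ModularForm 𝒮ℒ 12 :=
  (7 / 12 : ℂ) • ModularForm.mcast (by decide) (ModularForm.E₄.pow 3) +
    (5 / 12 : ℂ) • ModularForm.mcast (by decide) (ModularForm.E₆.pow 2)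

theorem refForm_qExpansion : qExpansion 1 refForm =
    (7 / 12 : ℂ) • (qExpansion 1 ModularForm.E₄ * qExpansion 1 ModularForm.E₄ * qExpansion 1 ModularForm.E₄) +
      (5 / 12 : ℂ) • (qExpansion 1 ModularForm.E₆ * qExpansion 1 ModularForm.E₆) := by
  rw [refForm, FunLike.coe_add, ModularForm.qExpansion_add one_pos one_mem_strictPeriods_SL,
    FunLike.coe_smul, FunLike.coe_smul, ModularForm.qExpansion_smul one_pos one_mem_strictPeriods_SL,
    ModularForm.qExpansion_smul one_pos one_mem_strictPeriods_SL, ModularForm.qExpansion_mcast,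
    ModularForm.qExpansion_mcast, ModularForm.qExpansion_pow one_pos one_mem_strictPeriods_SL,
    ModularForm.qExpansion_pow one_pos one_mem_strictPeriods_SL]
  ring_nf

theorem E4_coeffs : (qExpansion 1 ModularForm.E₄).coeff 0 = 1 ∧
    (qExpansion 1 ModularForm.E₄).coeff 1 = 240 ∧ (qExpansion 1 ModularForm.E₄).coeff 2 = 2160 ∧
    (qExpansion 1 ModularForm.E₄).coeff 3 = 6720 ∧ (qExpansion 1 ModularForm.E₄).coeff 4 = 17520 := by
  have hb : bernoulli 4 = -1 / 30 := by decide +kernel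
  have s2 : ArithmeticFunction.sigma 3 2 = 9 := by decide +kernel
  have s3 : ArithmeticFunction.sigma 3 3 = 28 := by decide +kernel
  have s4 : ArithmeticFunction.sigma 3 4 = 73 := by decide +kernel
  norm_num [EisensteinSeries.E_qExpansion_coeff _ ⟨2, rfl⟩, hb, s2, s3, s4]

theorem E6_coeffs : (qExpansion 1 ModularForm.E₆).coeff 0 = 1 ∧
    (qExpansion 1 ModularForm.E₆).coeff 1 = -504 ∧ (qExpansion 1 ModularForm.E₆).coeff 2 = -16632 ∧
    (qExpansion 1 ModularForm.E₆).coeff 3 = -122976 ∧ (qExpansion 1 ModularForm.E₆).coeff 4 = -532728 := by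
  have hb : bernoulli 6 = 1 / 42 := by decide +kernel
  have s2 : ArithmeticFunction.sigma 5 2 = 33 := by decide +kernel
  have s3 : ArithmeticFunction.sigma 5 3 = 244 := by decide +kernel
  have s4 : ArithmeticFunction.sigma 5 4 = 1057 := by decide +kernel
  norm_num [EisensteinSeries.E_qExpansion_coeff _ ⟨3, rfl⟩, hb, s2, s3, s4]

theorem refForm_coeffs : (qExpansion 1 refForm).coeff 0 = 1 ∧ (qExpansion 1 refForm).coeff 1 = 0 ∧
    (qExpansion 1 refForm).coeff 2 = 196560 ∧ (qExpansion 1 refForm).coeff 3 = 16773120 ∧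
    (qExpansion 1 refForm).coeff 4 = 398034000 := by
  obtain ⟨a0, a1, a2, a3, a4⟩ := E4_coeffs
  obtain ⟨b0, b1, b2, b3, b4⟩ := E6_coeffs
  rw [refForm_qExpansion]
  norm_num [-PowerSeries.coeff_zero_eq_constantCoeff, PowerSeries.coeff_mul, Finset.Nat.antidiagonal_succ, a0, a1, a2, a3, a4, b0, b1, b2, b3, b4]

variable (L : Gram24)

theorem Gram24.count_zero : L.count 0 = 1 := by
  rw [Gram24.count, show {x : Fin 24 → ℤ | L.Q x = 2 * ((0 : ℕ) : ℤ)} = {0} from ?_, Set.ncard_singleton]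
  ext x
  simp only [Set.mem_ofPred_eq, Set.mem_singleton_iff, Nat.cast_zero, mul_zero]
  refine ⟨fun h => ?_, fun h => by simp [h, Gram24.Q]⟩
  by_contra hx
  exact (L.pos x hx).ne' h

theorem Gram24.form_eq (h2 : ∀ x, L.Q x ≠ 2) : L.form = refForm := by
  rw [← sub_eq_zero]
  apply ModularForm.sturm_bound_levelOne
  have h1 : L.count 1 = 0 := by
    rw [Gram24.count, show {x : Fin 24 → ℤ | L.Q x = 2 * ((1 : ℕ) : ℤ)} = ∅ from ?_, Set.ncard_empty]
    ext x
    simpa using h2 x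
  obtain ⟨r0, r1, -⟩ := refForm_coeffs
  refine lt_of_lt_of_le (b := (2 : ℕ∞))
    (by exact_mod_cast (by decide : Int.toNat 12 / 12 < 2)) (PowerSeries.nat_le_order _ 2 fun i hi => ?_)
  rw [FunLike.coe_sub, ModularForm.qExpansion_sub one_pos one_mem_strictPeriods_SL, map_sub, L.coeff]
  interval_cases i
  · rw [r0, L.count_zero]; simp
  · rw [r1, h1]; simp

theorem Gram24.counts (h2 : ∀ x, L.Q x ≠ 2) :
    L.count 2 = 196560 ∧ L.count 3 = 16773120 ∧ L.count 4 = 398034000 := by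
  obtain ⟨-, -, r2, r3, r4⟩ := refForm_coeffs
  rw [← L.form_eq h2, L.coeff] at r2 r3 r4
  exact ⟨by exact_mod_cast r2, by exact_mod_cast r3, by exact_mod_cast r4⟩

theorem leech_counts (B : Matrix (Fin 24) (Fin 24) ℤ) (hsymm : B.IsSymm)
    (hpos : ∀ x : Fin 24 → ℤ, x ≠ 0 → 0 < x ⬝ᵥ (B *ᵥ x))
    (heven : ∀ x : Fin 24 → ℤ, (2 : ℤ) ∣ x ⬝ᵥ (B *ᵥ x)) (hdet : B.det = 1)
    (h2 : ∀ x : Fin 24 → ℤ, x ⬝ᵥ (B *ᵥ x) ≠ 2) :
    {x : Fin 24 → ℤ | x ⬝ᵥ (B *ᵥ x) = 4}.ncard = 196560 ∧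
      {x : Fin 24 → ℤ | x ⬝ᵥ (B *ᵥ x) = 6}.ncard = 16773120 ∧
      {x : Fin 24 → ℤ | x ⬝ᵥ (B *ᵥ x) = 8}.ncard = 398034000 :=
  (Gram24.counts ⟨B, hsymm, hpos, heven, hdet⟩ h2 :)

end H92.Theta

end
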