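import Mathlib

/-!
Poisson summation for Gaussians attached to positive definite quadratic forms.
-/

set_option autoImplicit false

noncomputable section

namespace H92.Theta

open Matrix Complex
open scoped Real

variable {n : ℕ}

/-- The quadratic form of a matrix. -/
def qf (A : Matrix (Fin n) (Fin n) ℝ) (x : Fin n → ℝ) : ℝ := x ⬝ᵥ (A *ᵥ x)

/-- An integer vector as a real vector. -/
def rv (x : Fin n → ℤ) : Fin n → ℝ := fun i => (x i : ℝ)

theorem exists_lower_bound (A : Matrix (Fin n) (Fin n) ℝ) (hA : ∀ x, x ≠ 0 → 0 < qf A x) :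
    ∃ c > 0, ∀ x, c * ∑ i, x i ^ 2 ≤ qf A x := by
  rcases Nat.eq_zero_or_pos n with rfl | hn
  · exact ⟨1, one_pos, fun x => by simp [qf, dotProduct]⟩
  haveI : Nonempty (Fin n) := ⟨⟨0, hn⟩⟩
  obtain ⟨x₀, hx₀, hmin⟩ := (isCompact_sphere (0 : Fin n → ℝ) 1).exists_isMinOn
    ⟨fun _ => 1, by simp⟩ (f := qf A) (by unfold qf dotProduct Matrix.mulVec; fun_prop)
  have hne : x₀ ≠ 0 := by rintro rfl; simp at hx₀
  have hpos := hA x₀ hne
  refine ⟨qf A x₀ / n, by positivity, fun x => ?_⟩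
  by_cases hx : x = 0
  · subst hx; simp [qf]
  have hnx : 0 < ‖x‖ := norm_pos_iff.mpr hx
  have h1 : qf A x₀ ≤ qf A (‖x‖⁻¹ • x) :=
    isMinOn_iff.mp hmin _ (by simp [norm_smul, inv_mul_cancel₀ hnx.ne'])
  have h2 : qf A (‖x‖⁻¹ • x) = qf A x / ‖x‖ ^ 2 := by
    simp only [qf, Matrix.mulVec_smul, smul_dotProduct, dotProduct_smul, smul_eq_mul]
    field_simp
  rw [h2, le_div_iff₀ (by positivity)] at h1
  have h3 : ∑ i, x i ^ 2 ≤ n * ‖x‖ ^ 2 := by
    calc ∑ i, x i ^ 2 ≤ ∑ _i : Fin n, ‖x‖ ^ 2 := Finset.sum_le_sum fun i _ => by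
          rw [← sq_abs]; exact pow_le_pow_left₀ (abs_nonneg _) (norm_le_pi_norm x i) 2
      _ = n * ‖x‖ ^ 2 := by simp
  calc qf A x₀ / n * ∑ i, x i ^ 2 ≤ qf A x₀ / n * (n * ‖x‖ ^ 2) := by gcongr
    _ = qf A x₀ * ‖x‖ ^ 2 := by field_simp
    _ ≤ qf A x := h1

theorem summable_shift_int {c : ℝ} (hc : 0 < c) (z : ℝ) :
    Summable fun k : ℤ => Real.exp (-c * ((k : ℝ) + z) ^ 2) := by
  have h0 : Summable fun k : ℤ => Real.exp (-(c / 2) * (k : ℝ) ^ 2) := by
    have hi : 0 < ((c / (2 * π) : ℝ) * I).im := by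
      have : (((c / (2 * π) : ℝ) : ℂ) * I).im = c / (2 * π) := by
        simp only [Complex.mul_im, Complex.ofReal_re, Complex.ofReal_im, I_re, I_im]; ring
      rw [this]; positivity
    refine (((summable_jacobiTheta₂_term_iff 0 _).mpr hi).norm).congr fun k => ?_
    have e : 2 * (π : ℂ) * I * k * 0 + π * I * (k : ℂ) ^ 2 * (((c / (2 * π) : ℝ) : ℂ) * I) =
        ((-(c / 2) * (k : ℝ) ^ 2 : ℝ) : ℂ) := by
      have hπ : (π : ℂ) ≠ 0 := by exact_mod_cast Real.pi_ne_zero
      push_cast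
      field_simp
      ring_nf
      simp [I_sq]
    rw [jacobiTheta₂_term, e, Complex.norm_exp, Complex.ofReal_re]
  refine Summable.of_nonneg_of_le (fun k => (Real.exp_pos _).le) (fun k => ?_)
    (h0.mul_left (Real.exp (c * z ^ 2)))
  rw [← Real.exp_add]
  gcongr
  nlinarith [mul_nonneg hc.le (sq_nonneg ((k : ℝ) + 2 * z))]

theorem summable_shift {c : ℝ} (hc : 0 < c) :
    ∀ {n : ℕ} (z : Fin n → ℝ),
      Summable fun k : Fin n → ℤ => Real.exp (-c * ∑ i, ((k i : ℝ) + z i) ^ 2)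
  | 0, z => Summable.of_finite
  | n + 1, z => by
    rw [← (Fin.consEquiv fun _ : Fin (n + 1) => ℤ).summable_iff]
    refine ((summable_shift_int hc (z 0)).mul_of_nonneg (summable_shift hc (fun i => z i.succ))
      (fun _ => (Real.exp_pos _).le) fun _ => (Real.exp_pos _).le).congr fun p => ?_
    show _ = Real.exp _
    rw [← Real.exp_add, Fin.sum_univ_succ]
    congr 1
    simp [Fin.consEquiv, mul_add]

theorem summable_qf {A : Matrix (Fin n) (Fin n) ℝ} (hA : ∀ x, x ≠ 0 → 0 < qf A x) {r : ℝ}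
    (hr : 0 < r) (z : Fin n → ℝ) :
    Summable fun k : Fin n → ℤ => Real.exp (-r * qf A (rv k + z)) := by
  obtain ⟨c, hc, hb⟩ := exists_lower_bound A hA
  refine Summable.of_nonneg_of_le (fun k => (Real.exp_pos _).le) (fun k => ?_)
    (summable_shift (mul_pos hr hc) z)
  refine Real.exp_le_exp.mpr ?_
  have := mul_le_mul_of_nonneg_left (hb (rv k + z)) hr.le
  simp only [Pi.add_apply, rv] at this ⊢
  linarith

/-- The first entry of the first column. -/
def lead (A : Matrix (Fin (n + 1)) (Fin (n + 1)) ℝ) : ℝ := A 0 0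

/-- The rest of the first column. -/
def side (A : Matrix (Fin (n + 1)) (Fin (n + 1)) ℝ) : Fin n → ℝ := fun i => A i.succ 0

/-- The Schur complement of the first entry. -/
def schur (A : Matrix (Fin (n + 1)) (Fin (n + 1)) ℝ) : Matrix (Fin n) (Fin n) ℝ :=
  Matrix.of fun i j => A i.succ j.succ - side A i * side A j / lead A

variable {A : Matrix (Fin (n + 1)) (Fin (n + 1)) ℝ}

theorem mulVec_cons (hs : A.IsSymm) (x : ℝ) (y : Fin n → ℝ) :
    (A *ᵥ Fin.cons x y) 0 = lead A * x + side A ⬝ᵥ y ∧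
      ∀ i : Fin n, (A *ᵥ Fin.cons x y) i.succ = side A i * x + ∑ j, A i.succ j.succ * y j := by
  refine ⟨?_, fun i => ?_⟩
  · simp only [Matrix.mulVec, dotProduct, Fin.sum_univ_succ, Fin.cons_zero, Fin.cons_succ, lead,
      side]
    exact congrArg _ (Finset.sum_congr rfl fun j _ => by rw [hs.apply])
  · simp [Matrix.mulVec, dotProduct, Fin.sum_univ_succ, side]

theorem schur_mulVec (y : Fin n → ℝ) (i : Fin n) :
    (schur A *ᵥ y) i = (∑ j, A i.succ j.succ * y j) - side A i * (side A ⬝ᵥ y) / lead A := by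
  simp only [Matrix.mulVec, dotProduct, schur, Matrix.of_apply, sub_mul, Finset.sum_sub_distrib,
    Finset.mul_sum, Finset.sum_div]
  congr 1
  exact Finset.sum_congr rfl fun j _ => by ring

theorem qf_cons (hs : A.IsSymm) (ha : lead A ≠ 0) (x : ℝ) (y : Fin n → ℝ) :
    qf A (Fin.cons x y) =
      lead A * (x + (side A ⬝ᵥ y) / lead A) ^ 2 + qf (schur A) y := by
  obtain ⟨h0, hi⟩ := mulVec_cons hs x y
  have h1 : qf A (Fin.cons x y) = x * (lead A * x + side A ⬝ᵥ y) +
      ∑ i, y i * (side A i * x + ∑ j, A i.succ j.succ * y j) := by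
    rw [qf, dotProduct, Fin.sum_univ_succ, Fin.cons_zero, h0]
    simp only [Fin.cons_succ, hi]
  have h2 : qf (schur A) y = (∑ i, y i * ∑ j, A i.succ j.succ * y j) -
      (side A ⬝ᵥ y) ^ 2 / lead A := by
    rw [qf, dotProduct]
    simp only [schur_mulVec, mul_sub, Finset.sum_sub_distrib]
    congr 1
    rw [pow_two, mul_div_assoc, ← eq_comm, dotProduct, Finset.sum_mul]
    exact Finset.sum_congr rfl fun i _ => by ring
  rw [h1, h2]
  simp only [mul_add, Finset.sum_add_distrib]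
  have h3 : ∑ i, y i * (side A i * x) = x * (side A ⬝ᵥ y) := by
    rw [dotProduct, Finset.mul_sum]
    exact Finset.sum_congr rfl fun i _ => by ring
  rw [h3]
  field_simp
  ring

theorem lead_pos (hA : ∀ x, x ≠ 0 → 0 < qf A x) : 0 < lead A := by
  have h := hA (Pi.single 0 1) (by simp)
  simpa [qf, Matrix.mulVec_single, lead] using h

theorem schur_symm (hs : A.IsSymm) : (schur A).IsSymm := by
  ext i j
  simp only [Matrix.transpose_apply, schur, Matrix.of_apply]
  rw [hs.apply, mul_comm]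

theorem schur_pos (hs : A.IsSymm) (hA : ∀ x, x ≠ 0 → 0 < qf A x) :
    ∀ y, y ≠ 0 → 0 < qf (schur A) y := by
  intro y hy
  have ha := lead_pos hA
  have h := hA (Fin.cons (-(side A ⬝ᵥ y) / lead A) y) fun h => hy (funext fun i => by
    simpa using congrFun h i.succ)
  rw [qf_cons hs ha.ne'] at h
  simpa [neg_div] using h

theorem det_cons (hs : A.IsSymm) (ha : lead A ≠ 0) : A.det = lead A * (schur A).det := by
  let c : Fin (n + 1) → ℝ := Fin.cons 0 fun i => side A i / lead A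
  let B : Matrix (Fin (n + 1)) (Fin (n + 1)) ℝ := Matrix.of fun i j => A i j - c i * A 0 j
  have h1 : A.det = B.det := Matrix.det_eq_of_forall_row_eq_smul_add_const c 0 rfl fun i j => by
    simp [B, c]
  rw [h1, Matrix.det_succ_column_zero, Fin.sum_univ_succ, Finset.sum_eq_zero (s := Finset.univ)
    (f := fun i : Fin n => _) fun i _ => ?_, add_zero]
  · have hB : B.submatrix Fin.succ Fin.succ = schur A := by
      ext i j
      simp only [B, c, Matrix.submatrix_apply, Matrix.of_apply, Fin.cons_succ, schur, side]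
      rw [hs.apply 0 j.succ]
      ring
    have h00 : B 0 0 = lead A := by simp [B, c, lead]
    simp only [Fin.val_zero, pow_zero, one_mul, Fin.succAbove_zero]
    rw [hB, h00]
  · have : B i.succ 0 = 0 := by
      simp only [B, c, Matrix.of_apply, Fin.cons_succ, side]
      show A i.succ 0 - A i.succ 0 / lead A * lead A = 0
      rw [div_mul_cancel₀ _ ha, sub_self]
    simp [this]

theorem isUnit_det_of_pos {m : ℕ} {M : Matrix (Fin m) (Fin m) ℝ} (hM : ∀ x, x ≠ 0 → 0 < qf M x) :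
    IsUnit M.det := by
  rw [isUnit_iff_ne_zero]
  intro h
  obtain ⟨v, hv, hv0⟩ := Matrix.exists_mulVec_eq_zero_iff.mpr h
  exact absurd (hM v hv) (by simp [qf, hv0])

theorem det_pos_of_pos : ∀ {m : ℕ} {M : Matrix (Fin m) (Fin m) ℝ},
    M.IsSymm → (∀ x, x ≠ 0 → 0 < qf M x) → 0 < M.det
  | 0, M, _, _ => by simp
  | m + 1, M, hs, hM => by
    rw [det_cons hs (lead_pos hM).ne']
    exact mul_pos (lead_pos hM) (det_pos_of_pos (schur_symm hs) (schur_pos hs hM))

theorem qf_inv_cons (hs : A.IsSymm) (hA : ∀ x, x ≠ 0 → 0 < qf A x) (w₀ : ℝ) (w : Fin n → ℝ) :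
    qf A⁻¹ (Fin.cons w₀ w) =
      w₀ ^ 2 / lead A + qf (schur A)⁻¹ (w - (w₀ / lead A) • side A) := by
  have ha := lead_pos hA
  have hu := isUnit_det_of_pos hA
  have hu' := isUnit_det_of_pos (schur_pos hs hA)
  obtain ⟨v, hv⟩ : ∃ v, A⁻¹ *ᵥ Fin.cons w₀ w = v := ⟨_, rfl⟩
  have hAv : A *ᵥ v = Fin.cons w₀ w := by
    rw [← hv, Matrix.mulVec_mulVec, Matrix.mul_nonsing_inv _ hu, Matrix.one_mulVec]
  obtain ⟨x, y, rfl⟩ : ∃ x y, v = Fin.cons x y := ⟨v 0, Fin.tail v, (Fin.cons_self_tail v).symm⟩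
  obtain ⟨e0, ei⟩ := mulVec_cons hs x y
  rw [hAv] at e0 ei
  simp only [Fin.cons_zero, Fin.cons_succ] at e0 ei
  have hy : schur A *ᵥ y = w - (w₀ / lead A) • side A := by
    funext i
    rw [schur_mulVec, Pi.sub_apply, Pi.smul_apply, smul_eq_mul, ei i, e0]
    field_simp
    ring
  have hy' : (schur A)⁻¹ *ᵥ (w - (w₀ / lead A) • side A) = y := by
    rw [← hy, Matrix.mulVec_mulVec, Matrix.nonsing_inv_mul _ hu', Matrix.one_mulVec]
  have hl : qf A⁻¹ (Fin.cons w₀ w) = qf A (Fin.cons x y) := by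
    rw [qf, qf, hv, hAv, dotProduct_comm]
  have hr : qf (schur A)⁻¹ (w - (w₀ / lead A) • side A) = qf (schur A) y := by
    rw [qf, qf, hy', hy, dotProduct_comm]
  rw [hl, hr, qf_cons hs ha.ne']
  congr 1
  rw [e0]
  field_simp

theorem pos_inv {m : ℕ} {M : Matrix (Fin m) (Fin m) ℝ} (hM : ∀ x, x ≠ 0 → 0 < qf M x) :
    ∀ x, x ≠ 0 → 0 < qf M⁻¹ x := by
  intro x hx
  have hu := isUnit_det_of_pos hM
  have h1 : M *ᵥ (M⁻¹ *ᵥ x) = x := by
    rw [Matrix.mulVec_mulVec, Matrix.mul_nonsing_inv _ hu, Matrix.one_mulVec]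
  have h2 := hM (M⁻¹ *ᵥ x) fun h => hx (by rw [← h1, h, Matrix.mulVec_zero])
  rw [qf, h1, dotProduct_comm] at h2
  exact h2

/-- A term of the sum on the Gaussian side. -/
def gTerm (A : Matrix (Fin n) (Fin n) ℝ) (z : Fin n → ℝ) (k : Fin n → ℤ) : ℂ :=
  cexp (((-π * qf A (rv k) : ℝ) : ℂ) + ((2 * π * (z ⬝ᵥ rv k) : ℝ) : ℂ) * I)

theorem norm_gTerm (A : Matrix (Fin n) (Fin n) ℝ) (z : Fin n → ℝ) (k : Fin n → ℤ) :
    ‖gTerm A z k‖ = Real.exp (-π * qf A (rv k)) := by
  rw [gTerm, Complex.norm_exp]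
  simp

theorem summable_gTerm {A : Matrix (Fin n) (Fin n) ℝ} (hA : ∀ x, x ≠ 0 → 0 < qf A x)
    (z : Fin n → ℝ) : Summable (gTerm A z) := by
  refine Summable.of_norm ?_
  refine (summable_qf hA Real.pi_pos 0).congr fun k => ?_
  rw [norm_gTerm, add_zero]

/-- One-variable Poisson summation in the form used below. -/
theorem poisson_one {a : ℝ} (ha : 0 < a) (β z₀ : ℝ) :
    ∑' x : ℤ, cexp (((-π * (a * ((x : ℝ) + β / a) ^ 2) : ℝ) : ℂ) + ((2 * π * (z₀ * x) : ℝ) : ℂ) * I) =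
      ((Real.sqrt a)⁻¹ : ℝ) *
        ∑' k : ℤ, cexp (((-π * (((k : ℝ) + z₀) ^ 2 / a) : ℝ) : ℂ) +
          ((-(2 * π * β * ((k : ℝ) + z₀) / a) : ℝ) : ℂ) * I) := by
  have hac : 0 < (a : ℂ).re := by simpa using ha
  have hp := Complex.tsum_exp_neg_quadratic hac (-(β : ℂ) + z₀ * I)
  have hane : (a : ℂ) ≠ 0 := by exact_mod_cast ha.ne'
  have hsq : (a : ℂ) ^ (1 / 2 : ℂ) = (Real.sqrt a : ℂ) := by
    rw [Real.sqrt_eq_rpow, Complex.ofReal_cpow ha.le]
    norm_num
  calc ∑' x : ℤ, cexp (((-π * (a * ((x : ℝ) + β / a) ^ 2) : ℝ) : ℂ) + ((2 * π * (z₀ * x) : ℝ) : ℂ) * I)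
      = ∑' x : ℤ, cexp (-π * β ^ 2 / a) * cexp (-π * a * x ^ 2 + 2 * π * (-(β : ℂ) + z₀ * I) * x) := by
        refine tsum_congr fun x => ?_
        rw [← Complex.exp_add]
        congr 1
        push_cast
        field_simp
        ring
    _ = cexp (-π * β ^ 2 / a) *
        (1 / (a : ℂ) ^ (1 / 2 : ℂ) * ∑' k : ℤ, cexp (-π / a * (k + I * (-(β : ℂ) + z₀ * I)) ^ 2)) := by
        rw [tsum_mul_left, hp]
    _ = ((Real.sqrt a)⁻¹ : ℝ) *
        ∑' k : ℤ, cexp (-π * β ^ 2 / a) * cexp (-π / a * (k + I * (-(β : ℂ) + z₀ * I)) ^ 2) := by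
        rw [tsum_mul_left, hsq]
        push_cast
        ring
    _ = _ := by
        congr 1
        rw [← (Equiv.neg ℤ).tsum_eq]
        refine tsum_congr fun k => ?_
        rw [← Complex.exp_add]
        congr 1
        simp only [Equiv.neg_apply, Int.cast_neg]
        push_cast
        field_simp
        ring_nf
        simp only [show I ^ 2 = -1 from I_sq, show I ^ 3 = -I by simp [pow_succ],
          show I ^ 4 = 1 by simp [pow_succ]]
        ring

theorem poisson : ∀ {n : ℕ} (A : Matrix (Fin n) (Fin n) ℝ), A.IsSymm →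
    (∀ x, x ≠ 0 → 0 < qf A x) → ∀ z : Fin n → ℝ,
      ∑' k, gTerm A z k =
        ((Real.sqrt A.det)⁻¹ : ℝ) * ∑' k, cexp ((-π * qf A⁻¹ (rv k + z) : ℝ) : ℂ)
  | 0, A, _, _, z => by simp [gTerm, qf, dotProduct]
  | n + 1, A, hs, hA, z => by
    have ha := lead_pos hA
    have hs' := schur_symm hs
    have hA' := schur_pos hs hA
    obtain ⟨z', hz'⟩ : ∃ z' : Fin n → ℝ, z' = fun i => z i.succ := ⟨_, rfl⟩
    obtain ⟨F, hF⟩ : ∃ F : ℤ → (Fin n → ℤ) → ℂ, ∀ k y, F k y =
        cexp ((-π * (((k : ℝ) + z 0) ^ 2 / lead A) : ℝ) : ℂ) *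
          gTerm (schur A) (z' - (((k : ℝ) + z 0) / lead A) • side A) y :=
      ⟨_, fun _ _ => rfl⟩
    have hinner : ∀ y : Fin n → ℤ, ∑' x : ℤ, gTerm A z (Fin.cons x y) =
        ((Real.sqrt (lead A))⁻¹ : ℝ) * ∑' k : ℤ, F k y := by
      intro y
      have hc : ∀ x : ℤ, rv (Fin.cons x y : Fin (n + 1) → ℤ) = Fin.cons (x : ℝ) (rv y) := fun x => by
        funext i; refine Fin.cases ?_ (fun j => ?_) i <;> simp [rv]
      have hdot : ∀ x : ℤ, z ⬝ᵥ rv (Fin.cons x y : Fin (n + 1) → ℤ) = z 0 * x + z' ⬝ᵥ rv y := fun x => by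
        rw [hc, dotProduct, Fin.sum_univ_succ, hz']
        simp [dotProduct]
      calc ∑' x : ℤ, gTerm A z (Fin.cons x y)
          = ∑' x : ℤ, gTerm (schur A) z' y *
              cexp (((-π * (lead A * ((x : ℝ) + (side A ⬝ᵥ rv y) / lead A) ^ 2) : ℝ) : ℂ) +
                ((2 * π * (z 0 * x) : ℝ) : ℂ) * I) := by
            refine tsum_congr fun x => ?_
            rw [gTerm, gTerm, ← Complex.exp_add, hdot, hc, qf_cons hs ha.ne']
            congr 1
            push_cast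
            ring
        _ = _ := by
            rw [tsum_mul_left, poisson_one ha, mul_left_comm, ← tsum_mul_left]
            congr 1
            refine tsum_congr fun k => ?_
            rw [hF, gTerm, gTerm, ← Complex.exp_add, ← Complex.exp_add]
            congr 1
            simp only [sub_dotProduct, smul_dotProduct, smul_eq_mul]
            push_cast
            ring
    have hFsum : Summable (Function.uncurry F) := by
      refine Summable.of_norm ?_
      have h1 : Summable fun k : ℤ => Real.exp (-(π / lead A) * ((k : ℝ) + z 0) ^ 2) :=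
        summable_shift_int (by positivity) _
      refine (h1.mul_of_nonneg (summable_qf hA' Real.pi_pos 0) (fun _ => (Real.exp_pos _).le)
        fun _ => (Real.exp_pos _).le).congr fun p => ?_
      rw [Function.uncurry, hF, norm_mul, norm_gTerm, Complex.norm_exp, Complex.ofReal_re, add_zero]
      congr 1
      ring_nf
    have hleft : ∑' k, gTerm A z k =
        ((Real.sqrt (lead A))⁻¹ : ℝ) * ∑' k : ℤ, ∑' y : Fin n → ℤ, F k y := by
      rw [← (Fin.consEquiv fun _ : Fin (n + 1) => ℤ).tsum_eq,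
        (show Summable fun p => gTerm A z ((Fin.consEquiv fun _ : Fin (n + 1) => ℤ) p) from
          (Fin.consEquiv fun _ : Fin (n + 1) => ℤ).summable_iff.mpr (summable_gTerm hA z)).tsum_prod]
      show ∑' (b : ℤ) (c : Fin n → ℤ), gTerm A z (Fin.cons b c) = _
      rw [← Summable.tsum_comm (f := fun x y => gTerm A z (Fin.cons x y))
          ((Fin.consEquiv fun _ : Fin (n + 1) => ℤ).summable_iff.mpr (summable_gTerm hA z))]
      simp only [hinner]
      rw [tsum_mul_left]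
      congr 1
      exact Summable.tsum_comm (f := F) hFsum
    have hright : ∑' k : Fin (n + 1) → ℤ, cexp ((-π * qf A⁻¹ (rv k + z) : ℝ) : ℂ) =
        ∑' k : ℤ, ∑' y : Fin n → ℤ, cexp ((-π * (((k : ℝ) + z 0) ^ 2 / lead A) : ℝ) : ℂ) *
          cexp ((-π * qf (schur A)⁻¹ (rv y + (z' - (((k : ℝ) + z 0) / lead A) • side A)) : ℝ) : ℂ) := by
      have hsum : Summable fun k : Fin (n + 1) → ℤ => cexp ((-π * qf A⁻¹ (rv k + z) : ℝ) : ℂ) := by
        refine Summable.of_norm ((summable_qf (pos_inv hA) Real.pi_pos z).congr fun k => ?_)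
        rw [Complex.norm_exp, Complex.ofReal_re]
      rw [← (Fin.consEquiv fun _ : Fin (n + 1) => ℤ).tsum_eq,
        (show Summable fun p => cexp ((-π * qf A⁻¹ (rv ((Fin.consEquiv fun _ : Fin (n + 1) => ℤ) p) + z)
            : ℝ) : ℂ) from
          (Fin.consEquiv fun _ : Fin (n + 1) => ℤ).summable_iff.mpr hsum).tsum_prod]
      refine tsum_congr fun k => tsum_congr fun y => ?_
      have hc : rv (Fin.consEquiv (fun _ : Fin (n + 1) => ℤ) (k, y)) + z =
          Fin.cons ((k : ℝ) + z 0) (rv y + z') := by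
        funext i; refine Fin.cases ?_ (fun j => ?_) i <;> simp [rv, hz', Fin.consEquiv]
      rw [hc, qf_inv_cons hs hA, ← Complex.exp_add, add_sub_assoc]
      congr 1
      push_cast
      ring
    rw [hleft, hright, det_cons hs ha.ne', Real.sqrt_mul ha.le, mul_inv]
    push_cast
    rw [mul_assoc ((Real.sqrt (lead A) : ℂ))⁻¹]
    congr 1
    rw [← tsum_mul_left]
    refine tsum_congr fun k => ?_
    simp only [hF, tsum_mul_left]
    rw [poisson (schur A) hs' hA', mul_left_comm]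
    push_cast
    rfl

end H92.Theta

end
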