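import Cfsg.Agent.H92.Theta.Gauss

/-!
Theta series of even unimodular lattices of rank 24 as modular forms.
-/

set_option autoImplicit false

noncomputable section

namespace H92.Theta

open Matrix Complex
open UpperHalfPlane hiding I I_im I_re
open scoped Real MatrixGroups ModularForm Manifold

/-- An even unimodular positive definite Gram matrix of rank 24. -/
structure Gram24 where
  /-- the matrix -/
  B : Matrix (Fin 24) (Fin 24) ℤ
  symm : B.IsSymm
  pos : ∀ x : Fin 24 → ℤ, x ≠ 0 → 0 < x ⬝ᵥ (B *ᵥ x)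
  even : ∀ x : Fin 24 → ℤ, (2 : ℤ) ∣ x ⬝ᵥ (B *ᵥ x)
  det : B.det = 1

variable (L : Gram24)

/-- The norm of a vector. -/
def Gram24.Q (x : Fin 24 → ℤ) : ℤ := x ⬝ᵥ (L.B *ᵥ x)

/-- The real Gram matrix. -/
def Gram24.R : Matrix (Fin 24) (Fin 24) ℝ := L.B.map fun a : ℤ => (a : ℝ)

theorem Gram24.rv_mulVec (x : Fin 24 → ℤ) : rv (L.B *ᵥ x) = L.R *ᵥ rv x := by
  funext i
  simp [rv, Gram24.R, Matrix.mulVec, dotProduct]

theorem Gram24.qf_rv (x : Fin 24 → ℤ) : qf L.R (rv x) = (L.Q x : ℝ) := by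
  rw [qf, ← L.rv_mulVec, Gram24.Q]
  simp [rv, dotProduct]

theorem Gram24.det_R : L.R.det = 1 := by
  have h : (Int.castRingHom ℝ) L.B.det = (L.B.map fun a : ℤ => (a : ℝ)).det :=
    (Int.castRingHom ℝ).map_det L.B
  rw [Gram24.R, ← h, L.det]
  simp

theorem Gram24.R_symm : L.R.IsSymm := L.symm.map _

/-- A nonnegative integer form that is positive on nonzero integer vectors with nonzero determinant is
positive on nonzero real vectors. -/
theorem Gram24.R_pos : ∀ v : Fin 24 → ℝ, v ≠ 0 → 0 < qf L.R v := by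
  -- first semidefiniteness, from rational approximation
  have hcont : Continuous (qf L.R) := by unfold qf dotProduct Matrix.mulVec; fun_prop
  have hgrid : ∀ (N : ℕ) (x : Fin 24 → ℤ), 0 ≤ qf L.R ((N : ℝ)⁻¹ • rv x) := by
    intro N x
    have h : qf L.R ((N : ℝ)⁻¹ • rv x) = (N : ℝ)⁻¹ ^ 2 * qf L.R (rv x) := by
      simp only [qf, Matrix.mulVec_smul, smul_dotProduct, dotProduct_smul, smul_eq_mul]
      ring
    rw [h, L.qf_rv]
    refine mul_nonneg (sq_nonneg _) ?_
    by_cases hx : x = 0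
    · simp [hx, Gram24.Q]
    · exact_mod_cast (L.pos x hx).le
  have hnn : ∀ v, 0 ≤ qf L.R v := by
    intro v
    have hlim : Filter.Tendsto (fun N : ℕ => ((N : ℝ))⁻¹ • rv (fun i => ⌊(N : ℝ) * v i⌋))
        Filter.atTop (nhds v) := by
      refine tendsto_pi_nhds.mpr fun i => ?_
      have h1 : Filter.Tendsto (fun x : ℝ => (⌊v i * x⌋ : ℝ) / x) Filter.atTop (nhds (v i)) := by
        rcases le_or_gt 0 (v i) with hv | hv
        · refine (tendsto_nat_floor_mul_div_atTop hv).congr' ?_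
          filter_upwards [Filter.eventually_ge_atTop 0] with x hx
          rw [← Int.natCast_floor_eq_floor (mul_nonneg hv hx)]
          simp
        · refine ((tendsto_nat_ceil_mul_div_atTop (neg_nonneg.mpr hv.le)).neg.congr' ?_).trans
            (by rw [neg_neg])
          filter_upwards [Filter.eventually_ge_atTop 0] with x hx
          rw [show v i * x = -(-v i * x) by ring, Int.floor_neg,
            ← Int.natCast_ceil_eq_ceil (mul_nonneg (neg_nonneg.mpr hv.le) hx)]
          simp [neg_div]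
      refine (h1.comp tendsto_natCast_atTop_atTop).congr fun N => ?_
      simp [rv, mul_comm, div_eq_mul_inv]
    exact ge_of_tendsto' ((hcont.tendsto v).comp hlim) fun N => hgrid N _
  intro v hv
  refine lt_of_le_of_ne (hnn v) fun h0 => hv ?_
  -- a null vector of a semidefinite form is in the kernel
  have hker : L.R *ᵥ v = 0 := by
    obtain ⟨w, hw⟩ : ∃ w, L.R *ᵥ v = w := ⟨_, rfl⟩
    have hq : ∀ t : ℝ, 0 ≤ 2 * t * (w ⬝ᵥ w) + t ^ 2 * qf L.R w := by
      intro t
      have h := hnn (v + t • w)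
      have hvw : v ⬝ᵥ (L.R *ᵥ w) = w ⬝ᵥ w := by
        rw [Matrix.dotProduct_mulVec, ← Matrix.mulVec_transpose, L.R_symm, hw]
      have e : qf L.R (v + t • w) = qf L.R v + 2 * t * (w ⬝ᵥ w) + t ^ 2 * qf L.R w := by
        simp only [qf, Matrix.mulVec_add, Matrix.mulVec_smul, add_dotProduct, dotProduct_add,
          smul_dotProduct, dotProduct_smul, smul_eq_mul, hvw, hw]
        ring
      rw [e, ← h0] at h
      linarith
    have hww : w ⬝ᵥ w = 0 := by
      refine le_antisymm ?_ (Finset.sum_nonneg fun i _ => mul_self_nonneg (w i))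
      by_contra hpos
      push_neg at hpos
      have hq0 := hnn w
      have h := hq (-(w ⬝ᵥ w) / (qf L.R w + 1))
      have h' : 0 ≤ (2 * (-(w ⬝ᵥ w) / (qf L.R w + 1)) * (w ⬝ᵥ w) +
          (-(w ⬝ᵥ w) / (qf L.R w + 1)) ^ 2 * qf L.R w) * (qf L.R w + 1) ^ 2 :=
        mul_nonneg h (sq_nonneg _)
      field_simp at h'
      nlinarith [mul_pos hpos hpos]
    rw [dotProduct_self_eq_zero] at hww
    rw [hw, hww]
  by_contra hv'
  exact absurd (Matrix.exists_mulVec_eq_zero_iff.mp ⟨v, hv', hker⟩) (by rw [L.det_R]; norm_num)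

/-- A term of the theta series. -/
def Gram24.term (τ : ℂ) (x : Fin 24 → ℤ) : ℂ := cexp (π * I * τ * (L.Q x : ℂ))

/-- The theta series on the complex plane. -/
def Gram24.fn (τ : ℂ) : ℂ := ∑' x, L.term τ x

theorem Gram24.norm_term (τ : ℂ) (x : Fin 24 → ℤ) :
    ‖L.term τ x‖ = Real.exp (-(π * τ.im) * qf L.R (rv x + 0)) := by
  rw [Gram24.term, Complex.norm_exp, add_zero, L.qf_rv]
  simp

theorem Gram24.summable_term {τ : ℂ} (h : 0 < τ.im) : Summable (L.term τ) := by
  refine Summable.of_norm ?_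
  simp only [L.norm_term]
  exact summable_qf L.R_pos (mul_pos Real.pi_pos h) 0

theorem Gram24.differentiableOn : DifferentiableOn ℂ L.fn {z : ℂ | 0 < z.im} := by
  intro z hz
  have hz' : 0 < z.im := hz
  have hU : IsOpen {w : ℂ | z.im / 2 < w.im} := isOpen_lt continuous_const Complex.continuous_im
  have h : DifferentiableOn ℂ L.fn {w : ℂ | z.im / 2 < w.im} := by
    refine differentiableOn_tsum_of_summable_norm
      (summable_qf L.R_pos (r := π * (z.im / 2)) (by positivity) 0)
      (fun x => ?_) hU fun x w hw => ?_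
    · unfold Gram24.term; fun_prop
    · rw [L.norm_term]
      refine Real.exp_le_exp.mpr ?_
      have hn : (0 : ℝ) ≤ qf L.R (rv x + 0) := by
        by_cases hx : rv x + 0 = 0
        · rw [hx]; simp [qf]
        · exact (L.R_pos _ hx).le
      have h1 : z.im / 2 ≤ w.im := le_of_lt hw
      nlinarith [mul_nonneg (mul_nonneg Real.pi_pos.le (sub_nonneg.mpr h1)) hn]
  exact (h.differentiableAt (hU.mem_nhds (by show z.im / 2 < z.im; linarith))).differentiableWithinAt

/-- Multiplication by the Gram matrix as a bijection of the integer vectors. -/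
def Gram24.equiv : (Fin 24 → ℤ) ≃ (Fin 24 → ℤ) where
  toFun x := L.B *ᵥ x
  invFun x := L.B⁻¹ *ᵥ x
  left_inv x := by
    show L.B⁻¹ *ᵥ (L.B *ᵥ x) = x
    rw [Matrix.mulVec_mulVec, Matrix.nonsing_inv_mul _ (by rw [L.det]; exact isUnit_one),
      Matrix.one_mulVec]
  right_inv x := by
    show L.B *ᵥ (L.B⁻¹ *ᵥ x) = x
    rw [Matrix.mulVec_mulVec, Matrix.mul_nonsing_inv _ (by rw [L.det]; exact isUnit_one),
      Matrix.one_mulVec]

theorem Gram24.inv_axis {t : ℝ} (ht : 0 < t) :
    L.fn (-1 / ((t : ℂ) * I)) = ((t : ℂ) * I) ^ 12 * L.fn ((t : ℂ) * I) := by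
  have hA : ∀ v : Fin 24 → ℝ, v ≠ 0 → 0 < qf (t • L.R) v := fun v hv => by
    rw [qf, Matrix.smul_mulVec, dotProduct_smul, smul_eq_mul]
    exact mul_pos ht (L.R_pos v hv)
  have hp := poisson (t • L.R) (L.R_symm.smul t) hA 0
  have hl : ∀ x, gTerm (t • L.R) 0 x = L.term ((t : ℂ) * I) x := by
    intro x
    rw [gTerm, Gram24.term, zero_dotProduct, qf, Matrix.smul_mulVec, dotProduct_smul, ← qf,
      L.qf_rv, smul_eq_mul]
    congr 1
    push_cast
    linear_combination (-(π : ℂ) * (t : ℂ) * (L.Q x : ℂ)) * I_mul_I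
  have hdet : (t • L.R).det = t ^ 24 := by
    rw [Matrix.det_smul, L.det_R, mul_one, Fintype.card_fin]
  have hsq : Real.sqrt (t ^ 24) = t ^ 12 := by
    rw [show t ^ 24 = (t ^ 12) ^ 2 by ring, Real.sqrt_sq (by positivity)]
  have hr : ∀ x, cexp ((-π * qf (t • L.R)⁻¹ (rv (L.equiv x) + 0) : ℝ) : ℂ) =
      L.term (-1 / ((t : ℂ) * I)) x := by
    intro x
    have hinv : (t • L.R)⁻¹ *ᵥ rv (L.equiv x) = t⁻¹ • rv x := by
      show (t • L.R)⁻¹ *ᵥ rv (L.B *ᵥ x) = _
      have e : rv (L.B *ᵥ x) = (t • L.R) *ᵥ (t⁻¹ • rv x) := by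
        rw [L.rv_mulVec, Matrix.mulVec_smul, Matrix.smul_mulVec, smul_smul, inv_mul_cancel₀ ht.ne',
          one_smul]
      rw [e, Matrix.mulVec_mulVec, Matrix.nonsing_inv_mul _ (isUnit_det_of_pos hA),
        Matrix.one_mulVec]
    rw [add_zero, qf, hinv, dotProduct_smul, smul_eq_mul, Gram24.term]
    show cexp _ = _
    rw [show rv (L.equiv x) = L.R *ᵥ rv x from L.rv_mulVec x, dotProduct_comm, ← qf, L.qf_rv]
    congr 1
    have htc : (t : ℂ) ≠ 0 := by exact_mod_cast ht.ne'
    push_cast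
    field_simp
  rw [tsum_congr hl, hdet, hsq,
    ← L.equiv.tsum_eq (fun k => cexp ((-π * qf (t • L.R)⁻¹ (rv k + 0) : ℝ) : ℂ)), tsum_congr hr] at hp
  have hI : I ^ 12 = 1 := by
    rw [show (12 : ℕ) = 2 * 6 from rfl, pow_mul, I_sq]; norm_num
  show L.fn _ = _
  rw [mul_pow, hI, mul_one, show L.fn ((t : ℂ) * I) = _ from hp]
  have htc : (t : ℂ) ≠ 0 := by exact_mod_cast ht.ne'
  push_cast
  rw [← mul_assoc, mul_inv_cancel₀ (pow_ne_zero _ htc), one_mul]
  rfl

theorem Gram24.inv_eq {z : ℂ} (hz : 0 < z.im) : L.fn (-1 / z) = z ^ 12 * L.fn z := by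
  have hU : IsOpen {z : ℂ | 0 < z.im} := isOpen_lt continuous_const Complex.continuous_im
  have hmaps : Set.MapsTo (fun w : ℂ => -1 / w) {z : ℂ | 0 < z.im} {z : ℂ | 0 < z.im} := by
    intro w hw
    have hw' : 0 < w.im := hw
    show 0 < (-1 / w).im
    rw [Complex.div_im]
    simp only [Complex.neg_im, Complex.one_im, neg_zero, zero_mul, zero_div, zero_sub, Complex.neg_re,
      Complex.one_re, neg_mul, one_mul, neg_div, neg_neg]
    exact div_pos hw' (Complex.normSq_pos.mpr fun h => by rw [h] at hw'; simp at hw')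
  have hne : ∀ w ∈ {z : ℂ | 0 < z.im}, w ≠ 0 := fun w hw h => by
    have hw' : 0 < w.im := hw
    rw [h] at hw'; simp at hw'
  have hf : AnalyticOnNhd ℂ (fun w => L.fn (-1 / w)) {z : ℂ | 0 < z.im} :=
    (L.differentiableOn.comp (DifferentiableOn.div (differentiableOn_const _) differentiableOn_id hne)
      hmaps).analyticOnNhd hU
  have hg : AnalyticOnNhd ℂ (fun w => w ^ 12 * L.fn w) {z : ℂ | 0 < z.im} :=
    ((differentiableOn_id.pow 12).mul L.differentiableOn).analyticOnNhd hU
  refine hf.eqOn_of_preconnected_of_frequently_eq hg (convex_halfSpace_im_gt 0).isPreconnected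
    (z₀ := I) (by simp) ?_ hz
  rw [Filter.frequently_iff]
  intro U hU'
  obtain ⟨ε, hε, hball⟩ := Metric.mem_nhdsWithin_iff.mp hU'
  refine ⟨((1 + ε / 2 : ℝ) : ℂ) * I, hball ⟨?_, ?_⟩, L.inv_axis (by positivity)⟩
  · rw [Metric.mem_ball, Complex.dist_eq,
      show ((1 + ε / 2 : ℝ) : ℂ) * I - I = ((ε / 2 : ℝ) : ℂ) * I by push_cast; ring]
    rw [norm_mul, Complex.norm_I, mul_one, Complex.norm_real, Real.norm_eq_abs,
      abs_of_pos (by positivity)]
    linarith
  · rw [Set.mem_compl_iff, Set.mem_singleton_iff]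
    intro h
    have := congrArg Complex.im h
    simp at this
    linarith

theorem Gram24.shift (z : ℂ) : L.fn (1 + z) = L.fn z := by
  refine tsum_congr fun x => ?_
  obtain ⟨k, hk⟩ := L.even x
  have hk' : L.Q x = 2 * k := hk
  rw [Gram24.term, Gram24.term, hk', Complex.exp_eq_exp_iff_exists_int]
  exact ⟨k, by push_cast; ring⟩

/-- Half the norm. -/
def Gram24.half (x : Fin 24 → ℤ) : ℕ := (L.Q x / 2).toNat

theorem Gram24.Q_eq_half (x : Fin 24 → ℤ) : L.Q x = 2 * (L.half x : ℤ) := by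
  have h0 : 0 ≤ L.Q x := by
    by_cases hx : x = 0
    · simp [hx, Gram24.Q]
    · exact (L.pos x hx).le
  obtain ⟨k, hk⟩ := L.even x
  have hk' : L.Q x = 2 * k := hk
  rw [Gram24.half]
  omega

/-- The number of vectors of a given norm. -/
def Gram24.count (m : ℕ) : ℕ := {x : Fin 24 → ℤ | L.Q x = 2 * (m : ℤ)}.ncard

theorem Gram24.finite_level (m : ℕ) : {x : Fin 24 → ℤ | L.Q x = 2 * (m : ℤ)}.Finite := by
  have h := (L.summable_term (τ := I) (by simp)).norm.tendsto_cofinite_zero.eventually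
    (gt_mem_nhds (Real.exp_pos (-(π * (2 * m)))))
  refine h.subset fun x hx => ?_
  simp only [Set.mem_compl_iff, Set.mem_ofPred_eq, not_lt, L.norm_term, add_zero, L.qf_rv] at hx ⊢
  rw [hx, I_im]
  push_cast
  ring_nf
  exact le_refl _

theorem Gram24.hasSum (τ : ℍ) :
    HasSum (fun m => (L.count m : ℂ) • Function.Periodic.qParam 1 (τ : ℂ) ^ m) (L.fn (τ : ℂ)) := by
  have hs : HasSum (L.term (τ : ℂ)) (L.fn (τ : ℂ)) := (L.summable_term τ.2).hasSum
  refine ((Equiv.sigmaFiberEquiv L.half).hasSum_iff.mpr hs).sigma fun m => ?_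
  have hset : {x | L.half x = m} = {x : Fin 24 → ℤ | L.Q x = 2 * (m : ℤ)} := by
    ext x
    simp only [Set.mem_ofPred_eq, L.Q_eq_half x]
    omega
  haveI : Fintype {x // L.half x = m} := ((hset ▸ L.finite_level m : {x | L.half x = m}.Finite)).fintype
  have hc : Fintype.card {x // L.half x = m} = L.count m := by
    rw [Gram24.count, ← hset, ← Nat.card_coe_set_eq, ← Nat.card_eq_fintype_card]
    rfl
  have hterm : ∀ x : {x // L.half x = m},
      L.term (τ : ℂ) x = Function.Periodic.qParam 1 (τ : ℂ) ^ m := by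
    intro x
    rw [Gram24.term, L.Q_eq_half, x.2, Function.Periodic.qParam, ← Complex.exp_nat_mul]
    congr 1
    push_cast
    ring
  have := hasSum_fintype fun x : {x // L.half x = m} => L.term (τ : ℂ) x
  simp only [Finset.sum_congr rfl fun x _ => hterm x, Finset.sum_const, Finset.card_univ, hc,
    nsmul_eq_mul] at this
  simpa using this

set_option backward.isDefEq.respectTransparency.types false in
/-- The theta series as a modular form. -/
def Gram24.form : ModularForm 𝒮ℒ 12 :=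
  let f : ℍ → ℂ := fun τ => L.fn τ
  have hT : (f ∣[(12 : ℤ)] ModularGroup.T) = f := by
    ext z
    rw [ModularForm.SL_slash_apply, denom, modular_T_smul, ModularGroup.T]
    simp [f, L.shift]
  have hS : (f ∣[(12 : ℤ)] ModularGroup.S) = f := by
    ext z
    suffices L.fn (-(↑z)⁻¹) * ((z : ℂ) ^ 12)⁻¹ = L.fn z by
      rw [ModularForm.SL_slash_apply, UpperHalfPlane.modular_S_smul]
      simpa [f, denom, ModularGroup.S] using this
    have h := L.inv_eq z.2
    rw [show (-1 : ℂ) / z = -(↑z)⁻¹ by rw [neg_div, one_div]] at h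
    rw [h, mul_comm, ← mul_assoc, inv_mul_cancel₀ (pow_ne_zero _ z.ne_zero), one_mul]
  { toFun := f
    slash_action_eq' := fun A hA => by
      obtain ⟨A, rfl⟩ := hA
      exact SlashInvariantForm.slash_action_generators_SL2Z hS hT A
    holo' := by
      rw [UpperHalfPlane.mdifferentiable_iff]
      refine L.differentiableOn.congr fun z hz => ?_
      simp [f, ofComplex_apply_of_im_pos hz]
    bdd_at_cusps' := fun hc => by
      rw [Subgroup.IsArithmetic.isCusp_iff_isCusp_SL2Z] at hc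
      rw [OnePoint.isBoundedAt_iff_forall_SL2Z hc]
      intro γ _
      rw [SlashInvariantForm.slash_action_generators_SL2Z hS hT]
      exact isBoundedAtImInfty_of_hasSum_qExpansion one_pos fun τ => L.hasSum τ }

theorem Gram24.coeff (m : ℕ) : (qExpansion 1 L.form).coeff m = (L.count m : ℂ) :=
  (ModularFormClass.qExpansion_coeff_unique (f := L.form) one_pos one_mem_strictPeriods_SL
    (fun τ => L.hasSum τ) m).symm

end H92.Theta

end
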